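import Cfsg.Agent.H13.Co3.Def
import Cfsg.Agent.LieClassical.OrthTrans

/-!
# S1920, case B, E8 with `z` of type D8: the interface of the analysis (helper64)

* `adm Q M` : the (-1)-eigenspace of `Ad M` on `so(Q)`;
* `D8I Q z R` : `R g M` = "`M` is a similitude of `(V, Q)`, `dim V = 16`, inducing `g ∈ C_G(z)` on `so(Q) = L₊`";
* `TabI` : the tables of `m(n)` for `n ∈ N0` (traces on `L₋` already used).
-/

set_option autoImplicit false

open Subgroup QuadraticMap

namespace Cfsg.Agent.H64.Co3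

open Cfsg.Agent.LieClassical.OrthCore

variable {F V G : Type*} [Field F] [AddCommGroup V] [Module F V] [Group G]

/-- the (-1)-eigenspace of `Ad M` on the skew maps -/
def adm (Q : QuadraticForm F V) (M : V ≃ₗ[F] V) : Submodule F (V →ₗ[F] V) where
  carrier := {S | (∀ u v, polar Q (S u) v = - polar Q u (S v)) ∧ ∀ v, M (S v) = - S (M v)}
  add_mem' := by
    rintro S T ⟨h1, h2⟩ ⟨h3, h4⟩
    refine ⟨fun u v => ?_, fun v => ?_⟩
    · rw [LinearMap.add_apply, LinearMap.add_apply, polar_add_left, polar_add_right, h1, h3]; ring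
    · rw [LinearMap.add_apply, LinearMap.add_apply, map_add, h2, h4]; abel
  zero_mem' := by
    refine ⟨fun u v => ?_, fun v => ?_⟩
    · rw [LinearMap.zero_apply, LinearMap.zero_apply, polar_zero_left, polar_zero_right, neg_zero]
    · rw [LinearMap.zero_apply, LinearMap.zero_apply, map_zero, neg_zero]
  smul_mem' := by
    rintro c S ⟨h1, h2⟩
    refine ⟨fun u v => ?_, fun v => ?_⟩
    · rw [LinearMap.smul_apply, LinearMap.smul_apply, polar_smul_left, polar_smul_right, h1, smul_neg]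
    · rw [LinearMap.smul_apply, LinearMap.smul_apply, map_smul, h2, smul_neg]

theorem mem_adm {Q : QuadraticForm F V} {M : V ≃ₗ[F] V} {S : V →ₗ[F] V} :
    S ∈ adm Q M ↔ (∀ u v, polar Q (S u) v = - polar Q u (S v)) ∧ ∀ v, M (S v) = - S (M v) := Iff.rfl

/-- **the action of `C_G(z)` on the 16-dimensional space, up to scalars** -/
structure D8I (Q : QuadraticForm F V) (z : G) (R : G → (V ≃ₗ[F] V) → Prop) : Prop where
  two : (2 : F) ≠ 0
  nondeg : Nondeg Q
  dim : Module.finrank F V = 16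
  ex : ∀ g, g * z = z * g → ∃ M, R g M
  scal : ∀ {g : G} {M L : V ≃ₗ[F] V} (c : F), R g M → c ≠ 0 → (∀ v, L v = c • M v) → R g L
  mul : ∀ {g h : G} {M L : V ≃ₗ[F] V}, R g M → R h L → R (g * h) (M * L)
  uniq : ∀ {g : G} {M L : V ≃ₗ[F] V}, R g M → R g L → ∃ c : F, c ≠ 0 ∧ ∀ v, L v = c • M v
  sim : ∀ {g : G} {M : V ≃ₗ[F] V}, R g M → ∃ μ : F, μ ≠ 0 ∧ ∀ v, Q (M v) = μ * Q v
  one : ∀ g, R g 1 ↔ g = 1 ∨ g = z
  om : ∀ M ∈ E Q, ∃ g, g * z = z * g ∧ R g M

/-- **the tables for the elements of `N0`** -/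
structure TabI (N0 : Subgroup G) (Q : QuadraticForm F V) (z : G) (R : G → (V ≃ₗ[F] V) → Prop) : Prop where
  t1 : ∀ n ∈ N0, n * n = 1 → n ≠ 1 → n ≠ z → ∀ M, R n M →
    Module.finrank F (adm Q M) = 48 ∨ Module.finrank F (adm Q M) = 64
  t2 : ∀ n ∈ N0, n * n = z → ∀ M, R n M →
    Module.finrank F (adm Q M) = 28 ∨ Module.finrank F (adm Q M) = 56 ∨ Module.finrank F (adm Q M) = 60

end Cfsg.Agent.H64.Co3
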