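import Cfsg.Agent.H64.Co3.Base

/-!
# S1920, E8-D8: the commutation form of the lifts of `N0`, case `c ≠ 0` (helper64)

`cm R n m` : the lifts of `n` and `m` commute.  If some two lifts of elements of `N0` do not commute:
* `cm_s` : the lifts of `s` commute with everything;
* `cm_iff_comm` : `cm R n m ↔ n m = m n`;
* `sk_s` : the lifts of `s` are skew-adjoint.
-/

set_option autoImplicit false

open Subgroup QuadraticMap

namespace Cfsg.Agent.H64.Co3

open Cfsg.Agent.LieClassical.OrthCore Cfsg.Agent.H13.Co3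

variable {F V G : Type*} [Field F] [AddCommGroup V] [Module F V] [Group G] {Q : QuadraticForm F V}
  {P N0 : Subgroup G} {z s : G} {ψ : ↥(normalizer (P : Set G)) →* Equiv.Perm (Fin 6)}
  {R : G → (V ≃ₗ[F] V) → Prop}

/-- the lifts of `n` and `m` commute -/
def cm (R : G → (V ≃ₗ[F] V) → Prop) (n m : G) : Prop :=
  ∃ M L, R n M ∧ R m L ∧ ∀ v, M (L v) = L (M v)

/-- the lifts of `n` are self-adjoint -/
def sa (Q : QuadraticForm F V) (R : G → (V ≃ₗ[F] V) → Prop) (n : G) : Prop := ∃ M, R n M ∧ SA Q M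

theorem cm_iff (T : D8I Q z R) {n m : G} {M L : V ≃ₗ[F] V} (hM : R n M) (hL : R m L) :
    cm R n m ↔ ∀ v, M (L v) = L (M v) := by
  refine ⟨?_, fun h => ⟨M, L, hM, hL, h⟩⟩
  rintro ⟨M', L', hM', hL', h⟩ v
  obtain ⟨c, hc, h1⟩ := T.uniq hM' hM
  obtain ⟨d, hd, h2⟩ := T.uniq hL' hL
  rw [h1, h2, h2, h1, map_smul, map_smul, h, smul_comm]

theorem cm_symm {n m : G} (h : cm R n m) : cm R m n := by
  obtain ⟨M, L, hM, hL, h⟩ := h
  exact ⟨L, M, hL, hM, fun v => (h v).symm⟩

theorem cm_comm {n m : G} : cm R n m ↔ cm R m n := ⟨cm_symm, cm_symm⟩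

theorem cm_self (T : D8I Q z R) {n : G} (h : n * z = z * n) : cm R n n := by
  obtain ⟨M, hM⟩ := T.ex n h
  exact ⟨M, M, hM, hM, fun _ => rfl⟩

theorem not_both (T : D8I Q z R) {M L : V ≃ₗ[F] V} (h1 : ∀ v, M (L v) = L (M v)) (h2 : ∀ v, M (L v) = - L (M v)) :
    False := by
  obtain ⟨v, hv⟩ := T.exists_vec_ne
  have h3 := h1 v
  rw [h2] at h3
  have h4 : (2 : F) • L (M v) = 0 := by
    rw [two_smul]
    nth_rw 1 [← h3]
    exact neg_add_cancel _
  have h5 := (smul_eq_zero.1 h4).resolve_left T.two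
  apply hv
  rwa [LinearEquiv.map_eq_zero_iff, LinearEquiv.map_eq_zero_iff] at h5

theorem anti_of_not_cm (C : CB P N0 z s ψ) (T : D8I Q z R) {n m : G} (hn : n ∈ N0) (hm : m ∈ N0)
    (h : ¬ cm R n m) {M L : V ≃ₗ[F] V} (hM : R n M) (hL : R m L) : ∀ v, M (L v) = - L (M v) := by
  rcases comm_or_anti C T hn hm hM hL with h1 | h1
  · exact absurd ⟨M, L, hM, hL, h1⟩ h
  · exact h1

theorem cm_mul (C : CB P N0 z s ψ) (T : D8I Q z R) {n n' m : G} (hn : n ∈ N0) (hn' : n' ∈ N0) (hm : m ∈ N0) :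
    cm R (n * n') m ↔ (cm R n m ↔ cm R n' m) := by
  obtain ⟨M, hM⟩ := T.ex n (nz C hn)
  obtain ⟨M', hM'⟩ := T.ex n' (nz C hn')
  obtain ⟨L, hL⟩ := T.ex m (nz C hm)
  have hMM := T.mul hM hM'
  have key : ∀ {k : G} {K : V ≃ₗ[F] V}, R k K → ((∀ v, K (L v) = - L (K v)) → ¬ cm R k m) := by
    intro k K hK h h'
    exact not_both T ((cm_iff T hK hL).1 h') h
  rcases comm_or_anti C T hn hm hM hL with h1 | h1 <;> rcases comm_or_anti C T hn' hm hM' hL with h2 | h2
  · have a1 := (cm_iff T hM hL).2 h1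
    have a2 := (cm_iff T hM' hL).2 h2
    have a3 : cm R (n * n') m := (cm_iff T hMM hL).2 fun v => by
      show M (M' (L v)) = L (M (M' v))
      rw [h2, h1]
    tauto
  · have a1 := (cm_iff T hM hL).2 h1
    have a2 := key hM' h2
    have a3 : ¬ cm R (n * n') m := key hMM fun v => by
      show M (M' (L v)) = - L (M (M' v))
      rw [h2, map_neg, h1]
    tauto
  · have a1 := key hM h1
    have a2 := (cm_iff T hM' hL).2 h2
    have a3 : ¬ cm R (n * n') m := key hMM fun v => by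
      show M (M' (L v)) = - L (M (M' v))
      rw [h2, h1]
    tauto
  · have a1 := key hM h1
    have a2 := key hM' h2
    have a3 : cm R (n * n') m := (cm_iff T hMM hL).2 fun v => by
      show M (M' (L v)) = L (M (M' v))
      rw [h2, map_neg, h1, neg_neg]
    tauto

theorem sa_iff (T : D8I Q z R) {n : G} {M : V ≃ₗ[F] V} (hM : R n M) : sa Q R n ↔ SA Q M := by
  refine ⟨?_, fun h => ⟨M, hM, h⟩⟩
  rintro ⟨M', hM', h⟩ u v
  obtain ⟨c, -, h1⟩ := T.uniq hM' hM
  rw [h1, h1, polar_smul_left, polar_smul_right, h]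

theorem not_sa_sk' (T : D8I Q z R) {M : V ≃ₗ[F] V} (h : SA Q M) (h' : SK Q M) : False := by
  obtain ⟨v, hv⟩ := T.exists_vec_ne
  apply hv
  apply T.nondeg
  intro y
  obtain ⟨y, rfl⟩ := M.surjective y
  have h1 := h v y
  rw [h'] at h1
  exact eq_zero_of_neg T.two h1.symm

theorem sk_of_not_sa (C : CB P N0 z s ψ) (T : D8I Q z R) {n : G} (hn : n ∈ N0) (h : ¬ sa Q R n) {M : V ≃ₗ[F] V}
    (hM : R n M) : SK Q M := by
  obtain ⟨l, hl, h1⟩ := exists_sq C T hn hM
  rcases sa_or_sk T hM hl h1 with ⟨a, -⟩ | ⟨a, -⟩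
  · exact absurd ⟨M, hM, a⟩ h
  · exact a

theorem sa_mul (C : CB P N0 z s ψ) (T : D8I Q z R) {n m : G} (hn : n ∈ N0) (hm : m ∈ N0) :
    sa Q R (n * m) ↔ ((sa Q R n ↔ sa Q R m) ↔ cm R n m) := by
  obtain ⟨M, hM⟩ := T.ex n (nz C hn)
  obtain ⟨L, hL⟩ := T.ex m (nz C hm)
  have hML := T.mul hM hL
  have key : ∀ {k : G} {K : V ≃ₗ[F] V}, R k K → SK Q K → ¬ sa Q R k := by
    intro k K hK h h'
    exact not_sa_sk' T ((sa_iff T hK).1 h') h
  have e1 : sa Q R n ∧ SA Q M ∨ ¬ sa Q R n ∧ SK Q M := by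
    by_cases h : sa Q R n
    · exact Or.inl ⟨h, (sa_iff T hM).1 h⟩
    · exact Or.inr ⟨h, sk_of_not_sa C T hn h hM⟩
  have e2 : sa Q R m ∧ SA Q L ∨ ¬ sa Q R m ∧ SK Q L := by
    by_cases h : sa Q R m
    · exact Or.inl ⟨h, (sa_iff T hL).1 h⟩
    · exact Or.inr ⟨h, sk_of_not_sa C T hm h hL⟩
  by_cases hc : cm R n m
  · have h0 := (cm_iff T hM hL).1 hc
    rcases e1 with ⟨a, a'⟩ | ⟨a, a'⟩ <;> rcases e2 with ⟨b, b'⟩ | ⟨b, b'⟩
    · have h3 : sa Q R (n * m) := ⟨_, hML, fun u v => by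
        show polar Q (M (L u)) v = polar Q u (M (L v))
        rw [a', b', h0]⟩
      tauto
    · have h3 : ¬ sa Q R (n * m) := key hML fun u v => by
        show polar Q (M (L u)) v = - polar Q u (M (L v))
        rw [a', b', h0]
      tauto
    · have h3 : ¬ sa Q R (n * m) := key hML fun u v => by
        show polar Q (M (L u)) v = - polar Q u (M (L v))
        rw [a', b', h0]
      tauto
    · have h3 : sa Q R (n * m) := ⟨_, hML, fun u v => by
        show polar Q (M (L u)) v = polar Q u (M (L v))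
        rw [a', b', h0, neg_neg]⟩
      tauto
  · have h0 := anti_of_not_cm C T hn hm hc hM hL
    have h0' : ∀ v, L (M v) = - M (L v) := fun v => by rw [h0, neg_neg]
    rcases e1 with ⟨a, a'⟩ | ⟨a, a'⟩ <;> rcases e2 with ⟨b, b'⟩ | ⟨b, b'⟩
    · have h3 : ¬ sa Q R (n * m) := key hML fun u v => by
        show polar Q (M (L u)) v = - polar Q u (M (L v))
        rw [a', b', h0', polar_neg_right]
      tauto
    · have h3 : sa Q R (n * m) := ⟨_, hML, fun u v => by
        show polar Q (M (L u)) v = polar Q u (M (L v))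
        rw [a', b', h0', polar_neg_right, neg_neg]⟩
      tauto
    · have h3 : sa Q R (n * m) := ⟨_, hML, fun u v => by
        show polar Q (M (L u)) v = polar Q u (M (L v))
        rw [a', b', h0', polar_neg_right, neg_neg]⟩
      tauto
    · have h3 : ¬ sa Q R (n * m) := key hML fun u v => by
        show polar Q (M (L u)) v = - polar Q u (M (L v))
        rw [a', b', h0', polar_neg_right, neg_neg]
      tauto

/-- `(n m)² = 1 ↔ (n² = 1 ↔ m² = 1) ↔ n m = m n` -/
theorem q_mul (C : CB P N0 z s ψ) {n m : G} (hn : n ∈ N0) (hm : m ∈ N0) :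
    n * m * (n * m) = 1 ↔ ((n * n = 1 ↔ m * m = 1) ↔ n * m = m * n) := by
  have hz1 : z ≠ 1 := C.z_ne
  have key : ∀ {a : G}, a * a = z → ¬ a * a = 1 := fun h h' => hz1 (h.symm.trans h')
  have hzm : m * z = z * m := nz C hm
  have hzn : n * z = z * n := nz C hn
  by_cases hc : n * m = m * n
  · have e : n * m * (n * m) = n * n * (m * m) := by
      rw [mul_assoc, ← mul_assoc m n m, ← hc]; group
    rw [e]
    rcases C.sq n hn with h | h <;> rcases C.sq m hm with h' | h' <;> rw [h, h']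
    · simp [hc]
    · simp [hc, hz1]
    · simp [hc, hz1]
    · simp [hc, hz1, C.z_sq]
  · have hc' : m * n = z * (n * m) := (C.comm m hm n hn).resolve_left (fun h => hc h.symm)
    have e : n * m * (n * m) = z * (n * n * (m * m)) := by
      rw [mul_assoc, ← mul_assoc m n m, hc', ← mul_assoc z n m, mul_assoc (z * n) m m, ← mul_assoc n,
        ← mul_assoc n z n, hzn]
      group
    rw [e]
    rcases C.sq n hn with h | h <;> rcases C.sq m hm with h' | h' <;> rw [h, h']
    · simp [hc, hz1]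
    · simp [hc, hz1, C.z_sq]
    · simp [hc, hz1, C.z_sq]
    · simp [hc, hz1, C.z_sq]

section fin

variable [FiniteDimensional F V]

/-- outside the radical `q = e` -/
theorem q_iff_sa (C : CB P N0 z s ψ) (T : D8I Q z R) (tab : TabI N0 Q z R) {n m : G} (hn : n ∈ N0) (hm : m ∈ N0)
    (h : ¬ cm R n m) : n * n = 1 ↔ sa Q R n := by
  obtain ⟨M, hM⟩ := T.ex n (nz C hn)
  obtain ⟨L, hL⟩ := T.ex m (nz C hm)
  constructor
  · intro h1
    by_contra h2
    have h3 := sq_of_skew C T tab hn hM (sk_of_not_sa C T hn h2 hM)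
    exact C.z_ne (h3.symm.trans h1)
  · intro h1
    exact sq_of_anti C T tab hn hM ((sa_iff T hM).1 h1) (anti_of_not_cm C T hn hm h hM hL)

theorem ns_one (C : CB P N0 z s ψ) : ¬ s * s = 1 := fun h => C.z_ne (C.s_sq.symm.trans h)

/-- the lifts of `s` commute with the lifts of `N0` -/
theorem cm_s (C : CB P N0 z s ψ) (T : D8I Q z R) (tab : TabI N0 Q z R) {m : G} (hm : m ∈ N0) : cm R s m := by
  by_contra h
  have h1 := q_iff_sa C T tab C.sN hm h
  have h2 := q_iff_sa C T tab hm C.sN (fun h' => h (cm_symm h'))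
  have h3 : ¬ cm R (s * m) m := by
    rw [cm_mul C T C.sN hm hm]
    have := cm_self T (nz C hm)
    tauto
  have h4 := q_iff_sa C T tab (mul_mem C.sN hm) hm h3
  rw [q_mul C C.sN hm, sa_mul C T C.sN hm, h1, h2] at h4
  have h5 := C.s_cen m hm
  have h6 : s * m = m * s := h5.symm
  tauto

variable {n0 m0 : G}

/-- the lifts of `s` are skew-adjoint -/
theorem not_sa_s (C : CB P N0 z s ψ) (T : D8I Q z R) (tab : TabI N0 Q z R) (hn0 : n0 ∈ N0) (hm0 : m0 ∈ N0)
    (h0 : ¬ cm R n0 m0) : ¬ sa Q R s := by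
  have h1 := q_iff_sa C T tab hn0 hm0 h0
  have h2 : ¬ cm R (n0 * s) m0 := by
    rw [cm_mul C T hn0 C.sN hm0]
    have := cm_s C T tab hm0
    tauto
  have h3 := q_iff_sa C T tab (mul_mem hn0 C.sN) hm0 h2
  rw [q_mul C hn0 C.sN, sa_mul C T hn0 C.sN, h1] at h3
  have h4 : n0 * s = s * n0 := C.s_cen n0 hn0
  have h5 : cm R n0 s := cm_symm (cm_s C T tab hn0)
  have h6 := ns_one C
  tauto

/-- the radical is `⟨s⟩` -/
theorem rad (C : CB P N0 z s ψ) (T : D8I Q z R) (tab : TabI N0 Q z R) (hn0 : n0 ∈ N0) (hm0 : m0 ∈ N0)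
    (h0 : ¬ cm R n0 m0) {v : G} (hv : v ∈ N0) (hr : ∀ m ∈ N0, cm R v m) : v ∈ zpowers s := by
  have hB : ∀ u ∈ N0, (∃ m ∈ N0, ¬ cm R u m) → (u * v = v * u ↔ (v * v = 1 ↔ sa Q R v)) := by
    rintro u hu ⟨m, hm, h⟩
    have h1 := q_iff_sa C T tab hu hm h
    have h2 : ¬ cm R (u * v) m := by
      rw [cm_mul C T hu hv hm]
      have := hr m hm
      tauto
    have h3 := q_iff_sa C T tab (mul_mem hu hv) hm h2
    rw [q_mul C hu hv, sa_mul C T hu hv, h1] at h3
    have h5 : cm R u v := cm_symm (hr u hu)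
    tauto
  have hnm : ¬ cm R (n0 * m0) m0 := by
    rw [cm_mul C T hn0 hm0 hm0]
    have := cm_self T (nz C hm0)
    tauto
  have b1 := hB n0 hn0 ⟨m0, hm0, h0⟩
  have b2 := hB m0 hm0 ⟨n0, hn0, fun h => h0 (cm_symm h)⟩
  have b3 := hB (n0 * m0) (mul_mem hn0 hm0) ⟨m0, hm0, hnm⟩
  -- `b` is multiplicative
  have hmul : ∀ a ∈ N0, ∀ b ∈ N0, (a * b * v = v * (a * b) ↔ (a * v = v * a ↔ b * v = v * b)) := by
    intro a ha b hb
    have hz1 : z ≠ 1 := C.z_ne
    have e1 : ∀ c ∈ N0, ¬ c * v = v * c → c * v = z * (v * c) := fun c hc h => (C.comm c hc v hv).resolve_left h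
    have hza := nz C ha
    by_cases ca : a * v = v * a <;> by_cases cb : b * v = v * b
    · have : a * b * v = v * (a * b) := by rw [mul_assoc, cb, ← mul_assoc, ca, mul_assoc]
      tauto
    · have h1 := e1 b hb cb
      have : ¬ a * b * v = v * (a * b) := by
        intro h
        rw [mul_assoc, h1, ← mul_assoc, hza, mul_assoc, ← mul_assoc a v b, ca, mul_assoc] at h
        exact hz1 (mul_eq_right.1 h)
      tauto
    · have h1 := e1 a ha ca
      have : ¬ a * b * v = v * (a * b) := by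
        intro h
        rw [mul_assoc, cb, ← mul_assoc, h1, mul_assoc, mul_assoc] at h
        exact hz1 (mul_eq_right.1 h)
      tauto
    · have h1 := e1 a ha ca
      have h2 := e1 b hb cb
      have : a * b * v = v * (a * b) := by
        rw [mul_assoc, h2, ← mul_assoc, hza, mul_assoc, ← mul_assoc a v b, h1, mul_assoc, ← mul_assoc z, C.z_sq,
          one_mul, mul_assoc]
      tauto
  have b4 := hmul n0 hn0 m0 hm0
  have b5 : n0 * v = v * n0 := by tauto
  apply C.cen v hv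
  intro m hm
  by_cases hc : ∃ k ∈ N0, ¬ cm R m k
  · have b6 := hB m hm hc
    have : m * v = v * m := by tauto
    exact this.symm
  · push Not at hc
    have h2 : ¬ cm R (n0 * m) m0 := by
      rw [cm_mul C T hn0 hm hm0]
      have := hc m0 hm0
      tauto
    have b6 := hB (n0 * m) (mul_mem hn0 hm) ⟨m0, hm0, h2⟩
    have b7 := hmul n0 hn0 m hm
    have : m * v = v * m := by tauto
    exact this.symm

/-- **the commutation form of the lifts is that of the elements** -/
theorem cm_iff_comm (C : CB P N0 z s ψ) (T : D8I Q z R) (tab : TabI N0 Q z R) (hn0 : n0 ∈ N0) (hm0 : m0 ∈ N0)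
    (h0 : ¬ cm R n0 m0) {n m : G} (hn : n ∈ N0) (hm : m ∈ N0) : cm R n m ↔ n * m = m * n := by
  have hcs : ∀ v ∈ zpowers s, ∀ k ∈ N0, k * v = v * k := by
    intro v hv k hk
    obtain ⟨i, rfl⟩ := mem_zpowers_iff.1 hv
    exact (Commute.zpow_right (C.s_cen k hk) i)
  constructor
  · intro h
    by_cases r1 : ∃ k ∈ N0, ¬ cm R n k
    · by_cases r2 : ∃ k ∈ N0, ¬ cm R m k
      · by_cases r3 : ∃ k ∈ N0, ¬ cm R (n * m) k
        · obtain ⟨k1, hk1, r1⟩ := r1
          obtain ⟨k2, hk2, r2⟩ := r2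
          obtain ⟨k3, hk3, r3⟩ := r3
          have e1 := q_iff_sa C T tab hn hk1 r1
          have e2 := q_iff_sa C T tab hm hk2 r2
          have e3 := q_iff_sa C T tab (mul_mem hn hm) hk3 r3
          rw [q_mul C hn hm, sa_mul C T hn hm, e1, e2] at e3
          tauto
        · push Not at r3
          have h1 := hcs _ (rad C T tab hn0 hm0 h0 (mul_mem hn hm) r3) m hm
          have h2 : m * n * m = n * m * m := by rw [mul_assoc]; exact h1
          exact (mul_right_cancel h2).symm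
      · push Not at r2
        exact hcs _ (rad C T tab hn0 hm0 h0 hm r2) n hn
    · push Not at r1
      exact (hcs _ (rad C T tab hn0 hm0 h0 hn r1) m hm).symm
  · intro h
    by_contra hc
    have h3 : ¬ cm R (n * m) m := by
      rw [cm_mul C T hn hm hm]
      have := cm_self T (nz C hm)
      tauto
    have e1 := q_iff_sa C T tab hn hm hc
    have e2 := q_iff_sa C T tab hm hn (fun h => hc (cm_symm h))
    have e3 := q_iff_sa C T tab (mul_mem hn hm) hm h3
    rw [q_mul C hn hm, sa_mul C T hn hm, e1, e2] at e3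
    tauto

end fin

end Cfsg.Agent.H64.Co3
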