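import Cfsg.Agent.H64.Co3.D8I

/-!
# S1920, E8-D8: transport of the interface (helper64)
-/

set_option autoImplicit false

open Subgroup QuadraticMap

namespace Cfsg.Agent.H64.Co3

open Cfsg.Agent.LieClassical.OrthCore

variable {F V G G' : Type*} [Field F] [AddCommGroup V] [Module F V] [Group G] [Group G'] {Q : QuadraticForm F V}
  {z : G} {R : G → (V ≃ₗ[F] V) → Prop}

/-- transport of the interface along an isomorphism `G' ≃* G` -/
theorem D8I.comap (T : D8I Q z R) (e : G' ≃* G) {z' : G'} (hz : e z' = z) : D8I Q z' (fun g M => R (e g) M) where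
  two := T.two
  nondeg := T.nondeg
  dim := T.dim
  ex g hg := T.ex (e g) (by rw [← hz, ← map_mul, hg, map_mul])
  scal c h hc hL := T.scal c h hc hL
  mul {g h M L} hg hh := by
    show R (e (g * h)) (M * L)
    rw [map_mul]
    exact T.mul hg hh
  uniq h h' := T.uniq h h'
  sim h := T.sim h
  one g := by
    show R (e g) 1 ↔ _
    rw [T.one, ← hz, EmbeddingLike.map_eq_one_iff, EmbeddingLike.apply_eq_iff_eq]
  om M hM := by
    obtain ⟨g, hg, h⟩ := T.om M hM
    refine ⟨e.symm g, ?_, ?_⟩
    · apply e.injective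
      rw [map_mul, map_mul, e.apply_symm_apply, hz, hg]
    · show R (e (e.symm g)) M
      rw [e.apply_symm_apply]
      exact h

/-- transport of the interface to a conjugate -/
theorem D8I.conj (T : D8I Q z R) (h : G) : D8I Q (h * z * h⁻¹) (fun g M => R (h⁻¹ * g * h) M) := by
  have h1 := T.comap (MulAut.conj h⁻¹) (z' := h * z * h⁻¹) (by rw [MulAut.conj_apply]; group)
  have h2 : (fun g M => R ((MulAut.conj h⁻¹) g) M) = fun g (M : V ≃ₗ[F] V) => R (h⁻¹ * g * h) M := by
    funext g M
    rw [MulAut.conj_apply, inv_inv]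
  rw [h2] at h1
  exact h1

/-- transport of the tables -/
theorem TabI.comap {N0 : Subgroup G} (T : TabI N0 Q z R) (e : G' ≃* G) {z' : G'} {N0' : Subgroup G'}
    (hz : e z' = z) (hN : ∀ n ∈ N0', e n ∈ N0) : TabI N0' Q z' (fun g M => R (e g) M) where
  t1 n hn h h1 h2 M hM := T.t1 (e n) (hN n hn) (by rw [← map_mul, h, map_one])
    (fun h3 => h1 (by rwa [EmbeddingLike.map_eq_one_iff] at h3))
    (fun h3 => h2 (by rw [← hz, EmbeddingLike.apply_eq_iff_eq] at h3; exact h3)) M hM
  t2 n hn h M hM := T.t2 (e n) (hN n hn) (by rw [← map_mul, h, hz]) M hM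

end Cfsg.Agent.H64.Co3
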